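import Mathlib

/-! Certificates for the centraliser of an element of shape 1^4 5^4 of the lattice group: eight fixed
vectors, ten sets of fixed classes, and three elements permuting them. -/

set_option autoImplicit false
set_option maxRecDepth 10000

noncomputable section

namespace CfsgLib.Co0FiveFix81

/-- Fixed vectors, a basis modulo 2. -/
def basisL : List (List ℤ) := [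
  [-4, 0, 0, -4, 0, 0, 0, 0, 0, 0, 0, 0, 0, 0, 0, -4, 0, 0, 0, 0, 0, 0, 0, -4],
  [-4, 0, 0, -4, 0, 0, 0, 0, 0, 0, 0, 0, 0, 0, 0, -4, 0, 0, 0, 0, 0, 0, 0, 4],
  [-4, 0, 0, 0, 0, -2, 0, -2, 0, 0, -2, -2, 0, 0, -2, -2, 0, -2, 0, -2, -2, -2, -2, 2],
  [-4, 0, 0, 2, 0, 2, 0, 2, 2, 2, 2, 0, 2, 2, 0, -2, 2, 0, 0, 0, 2, 2, 0, 0],
  [-2, 0, 0, 0, 0, -2, 0, -2, -2, -2, -2, -2, -2, -2, -2, 0, -2, -2, 0, -2, -2, -2, -2, 0],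
  [-4, 0, 0, 0, 0, 2, 0, 2, 0, 0, 2, 2, 0, 0, 2, -2, 0, 2, 0, 2, 2, 2, 2, 2],
  [-4, 0, 0, -2, 0, 2, 0, 2, 2, 2, 2, 0, 2, 2, 0, 2, 2, 0, 0, 0, 2, 2, 0, 0],
  [-1, 3, 3, -1, 3, -1, 3, -1, -1, -1, -1, -1, -1, -1, -1, -1, -1, -1, 3, -1, -1, -1, -1, -1]]

/-- The dual basis, as combinations. -/
def dualL : List ℕ := [208, 192, 64, 32, 1, 8, 7, 3]

/-- The combination congruent to the sum of the five images of each generator. -/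
def projL : List ℕ := [3, 3, 200, 74, 75, 75, 108, 75, 37, 75, 37, 109, 109, 37, 2, 109, 109, 2, 36, 109, 2, 75, 2, 37, 37, 2, 78, 120, 66, 100, 74, 18, 87, 14, 94, 87, 6, 15, 112, 67, 60, 40, 75, 7, 120, 18, 27, 52, 60]

/-- The ten sets of combinations. -/
def setsL : List (List ℕ) := [
  [0, 1, 2, 3, 4, 5, 6, 7, 8, 9, 10, 11, 12, 13, 14, 15],
  [0, 16, 32, 48, 64, 80, 96, 112, 128, 144, 160, 176, 192, 208, 224, 240],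
  [0, 31, 34, 61, 65, 94, 99, 124, 136, 151, 170, 181, 201, 214, 235, 244],
  [0, 23, 35, 52, 66, 85, 97, 118, 143, 152, 172, 187, 205, 218, 238, 249],
  [0, 24, 33, 57, 67, 91, 98, 122, 135, 159, 166, 190, 196, 220, 229, 253],
  [0, 1, 2, 3, 32, 33, 34, 35, 64, 65, 66, 67, 96, 97, 98, 99],
  [0, 7, 8, 15, 16, 23, 24, 31, 128, 135, 136, 143, 144, 151, 152, 159],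
  [0, 6, 10, 12, 112, 118, 122, 124, 160, 166, 170, 172, 208, 214, 218, 220],
  [0, 4, 9, 13, 48, 52, 57, 61, 192, 196, 201, 205, 240, 244, 249, 253],
  [0, 5, 11, 14, 80, 85, 91, 94, 176, 181, 187, 190, 224, 229, 235, 238]]

/-- Where the three elements send the members of each set. -/
def imgL : List (List (List ℕ)) := [
  [[0, 13, 4, 9, 10, 7, 14, 3, 1, 12, 5, 8, 11, 6, 15, 2],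
   [0, 67, 57, 122, 196, 135, 253, 190, 98, 33, 91, 24, 166, 229, 159, 220],
   [0, 65, 61, 124, 201, 136, 244, 181, 99, 34, 94, 31, 170, 235, 151, 214],
   [0, 64, 48, 112, 192, 128, 240, 176, 96, 32, 80, 16, 160, 224, 144, 208],
   [0, 66, 52, 118, 205, 143, 249, 187, 97, 35, 85, 23, 172, 238, 152, 218],
   [0, 13, 4, 9, 57, 52, 61, 48, 196, 201, 192, 205, 253, 240, 249, 244],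
   [0, 3, 1, 2, 67, 64, 66, 65, 98, 97, 99, 96, 33, 34, 32, 35],
   [0, 14, 5, 11, 190, 176, 187, 181, 91, 85, 94, 80, 229, 235, 224, 238],
   [0, 10, 12, 6, 122, 112, 118, 124, 166, 172, 170, 160, 220, 214, 208, 218],
   [0, 7, 8, 15, 135, 128, 143, 136, 24, 31, 16, 23, 159, 152, 151, 144]],
  [[0, 35, 97, 66, 23, 52, 118, 85, 187, 152, 218, 249, 172, 143, 205, 238],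
   [0, 11, 3, 8, 2, 9, 1, 10, 5, 14, 6, 13, 7, 12, 4, 15],
   [0, 229, 98, 135, 33, 196, 67, 166, 190, 91, 220, 57, 159, 122, 253, 24],
   [0, 94, 65, 31, 99, 61, 34, 124, 235, 181, 170, 244, 136, 214, 201, 151],
   [0, 176, 32, 144, 64, 240, 96, 208, 80, 224, 112, 192, 16, 160, 48, 128],
   [0, 35, 97, 66, 3, 32, 98, 65, 2, 33, 99, 64, 1, 34, 96, 67],
   [0, 85, 187, 238, 11, 94, 176, 229, 5, 80, 190, 235, 14, 91, 181, 224],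
   [0, 118, 218, 172, 10, 124, 208, 166, 6, 112, 220, 170, 12, 122, 214, 160],
   [0, 23, 152, 143, 8, 31, 144, 135, 7, 16, 159, 136, 15, 24, 151, 128],
   [0, 52, 249, 205, 9, 61, 240, 196, 13, 57, 244, 192, 4, 48, 253, 201]],
  [[0, 2, 1, 3, 35, 33, 34, 32, 64, 66, 65, 67, 99, 97, 98, 96],
   [0, 16, 7, 23, 8, 24, 15, 31, 144, 128, 151, 135, 152, 136, 159, 143],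
   [0, 112, 6, 118, 10, 122, 12, 124, 208, 160, 214, 166, 218, 170, 220, 172],
   [0, 48, 4, 52, 9, 57, 13, 61, 240, 192, 244, 196, 249, 201, 253, 205],
   [0, 80, 5, 85, 11, 91, 14, 94, 176, 224, 181, 229, 187, 235, 190, 238],
   [0, 2, 1, 3, 7, 5, 6, 4, 8, 10, 9, 11, 15, 13, 14, 12],
   [0, 32, 64, 96, 16, 48, 80, 112, 144, 176, 208, 240, 128, 160, 192, 224],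
   [0, 34, 65, 99, 31, 61, 94, 124, 151, 181, 214, 244, 136, 170, 201, 235],
   [0, 35, 66, 97, 23, 52, 85, 118, 152, 187, 218, 249, 143, 172, 205, 238],
   [0, 33, 67, 98, 24, 57, 91, 122, 135, 166, 196, 229, 159, 190, 220, 253]]]

/-- The permutations of the ten sets. -/
def permL : List (List ℕ) := [[0, 4, 2, 1, 3, 8, 5, 9, 7, 6], [3, 0, 4, 2, 1, 5, 9, 7, 6, 8], [5, 6, 7, 8, 9, 0, 1, 2, 3, 4]]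

/-- Rows of an element commuting with the element of order 5. -/
def rowsX : List (List ℤ) := [
  [2, 2, 2, 2, 2, 0, 2, 0, -2, -2, 0, 0, -2, -2, 0, 4, -2, 0, 2, 0, 0, 0, 0, 0],
  [2, 2, -2, -2, -2, 0, 2, 0, -2, -2, 0, 0, 2, 2, 0, 0, 2, 0, 2, 0, 0, 4, 0, 0],
  [2, -2, 2, -2, 2, 0, 2, 4, 2, -2, 0, 0, 2, 2, 0, 0, -2, 0, -2, 0, 0, 0, 0, 0],
  [4, 0, 0, 0, 0, -2, 0, -2, 0, 0, -2, -2, 0, 0, -2, -2, 0, -2, 0, -2, -2, -2, -2, 2],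
  [2, -2, 2, -2, 2, 0, -2, 0, -2, 2, 4, 0, 2, -2, 0, 0, 2, 0, 2, 0, 0, 0, 0, 0],
  [0, 0, 0, 0, 0, -2, 0, 2, 0, 4, -2, -2, 0, 0, 2, 2, 0, 2, 0, -2, -2, 2, -2, -2],
  [2, 2, 2, -2, -2, 4, 2, 0, 2, 2, 0, 0, -2, -2, 0, 0, 2, 0, -2, 0, 0, 0, 0, 0],
  [0, 0, 0, 0, 0, 2, 0, -2, 0, 0, 2, -2, 0, 4, 2, 2, 0, -2, 0, -2, -2, -2, 2, -2],
  [0, 0, 0, 0, 0, 2, 0, 2, 0, 0, -2, 2, 0, 0, 2, -2, 0, -2, 4, 2, -2, -2, -2, -2],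
  [0, 0, 0, 0, 0, -2, 4, -2, 0, 0, 2, -2, 0, 0, 2, -2, 0, 2, 0, 2, 2, -2, -2, -2],
  [0, 0, 0, 0, 0, -2, 0, 2, 0, 0, -2, -2, 0, 0, -2, 2, 4, -2, 0, 2, 2, -2, 2, -2],
  [2, -2, -2, 2, 2, 0, 2, 0, -2, 2, 0, 4, -2, 2, 0, 0, 2, 0, -2, 0, 0, 0, 0, 0],
  [0, 4, 0, 0, 0, -2, 0, 2, 0, 0, 2, 2, 0, 0, -2, -2, 0, 2, 0, -2, -2, -2, 2, -2],
  [0, 0, 4, 0, 0, -2, 0, -2, 0, 0, -2, 2, 0, 0, 2, -2, 0, -2, 0, -2, 2, 2, 2, -2],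
  [2, 2, -2, 2, 2, 0, -2, 0, 2, -2, 0, 0, 2, -2, 4, 0, 2, 0, -2, 0, 0, 0, 0, 0],
  [0, 0, 0, 4, 0, 2, 0, 2, 0, 0, 2, -2, 0, 0, -2, -2, 0, -2, 0, -2, 2, 2, -2, -2],
  [0, 0, 0, 0, 4, 2, 0, -2, 0, 0, -2, -2, 0, 0, -2, -2, 0, 2, 0, 2, -2, 2, 2, -2],
  [2, -2, 2, 2, -2, 0, -2, 0, 2, -2, 0, 0, -2, 2, 0, 0, 2, 4, 2, 0, 0, 0, 0, 0],
  [2, 2, -2, -2, 2, 0, -2, 0, 2, 2, 0, 0, -2, 2, 0, 0, -2, 0, 2, 0, 4, 0, 0, 0],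
  [2, 2, 2, 2, -2, 0, -2, 0, -2, 2, 0, 0, 2, 2, 0, 0, -2, 0, -2, 4, 0, 0, 0, 0],
  [0, 0, 0, 0, 0, -2, 0, -2, 4, 0, 2, 2, 0, 0, -2, 2, 0, -2, 0, 2, -2, 2, -2, -2],
  [0, 0, 0, 0, 0, 2, 0, -2, 0, 0, -2, 2, 4, 0, -2, 2, 0, 2, 0, -2, 2, -2, -2, -2],
  [2, -2, -2, 2, -2, 0, 2, 0, 2, 2, 0, 0, 2, -2, 0, 0, -2, 0, 2, 0, 0, 0, 4, 0],
  [-2, 2, 2, 2, 2, 0, 2, 0, 2, 2, 0, 0, 2, 2, 0, 0, 2, 0, 2, 0, 0, 0, 0, 4]]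

/-- Its columns. -/
def colsX : List (List ℤ) := [
  [2, 2, 2, 4, 2, 0, 2, 0, 0, 0, 0, 2, 0, 0, 2, 0, 0, 2, 2, 2, 0, 0, 2, -2],
  [2, 2, -2, 0, -2, 0, 2, 0, 0, 0, 0, -2, 4, 0, 2, 0, 0, -2, 2, 2, 0, 0, -2, 2],
  [2, -2, 2, 0, 2, 0, 2, 0, 0, 0, 0, -2, 0, 4, -2, 0, 0, 2, -2, 2, 0, 0, -2, 2],
  [2, -2, -2, 0, -2, 0, -2, 0, 0, 0, 0, 2, 0, 0, 2, 4, 0, 2, -2, 2, 0, 0, 2, 2],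
  [2, -2, 2, 0, 2, 0, -2, 0, 0, 0, 0, 2, 0, 0, 2, 0, 4, -2, 2, -2, 0, 0, -2, 2],
  [0, 0, 0, -2, 0, -2, 4, 2, 2, -2, -2, 0, -2, -2, 0, 2, 2, 0, 0, 0, -2, 2, 0, 0],
  [2, 2, 2, 0, -2, 0, 2, 0, 0, 4, 0, 2, 0, 0, -2, 0, 0, -2, -2, -2, 0, 0, 2, 2],
  [0, 0, 4, -2, 0, 2, 0, -2, 2, -2, 2, 0, 2, -2, 0, 2, -2, 0, 0, 0, -2, -2, 0, 0],
  [-2, -2, 2, 0, -2, 0, 2, 0, 0, 0, 0, -2, 0, 0, 2, 0, 0, 2, 2, -2, 4, 0, 2, 2],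
  [-2, -2, -2, 0, 2, 4, 2, 0, 0, 0, 0, 2, 0, 0, -2, 0, 0, -2, 2, 2, 0, 0, 2, 2],
  [0, 0, 0, -2, 4, -2, 0, 2, -2, 2, -2, 0, 2, -2, 0, 2, -2, 0, 0, 0, 2, -2, 0, 0],
  [0, 0, 0, -2, 0, -2, 0, -2, 2, -2, -2, 4, 2, 2, 0, -2, -2, 0, 0, 0, 2, 2, 0, 0],
  [-2, 2, 2, 0, 2, 0, -2, 0, 0, 0, 0, -2, 0, 0, 2, 0, 0, -2, -2, 2, 0, 4, 2, 2],
  [-2, 2, 2, 0, -2, 0, -2, 4, 0, 0, 0, 2, 0, 0, -2, 0, 0, 2, 2, 2, 0, 0, -2, 2],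
  [0, 0, 0, -2, 0, 2, 0, 2, 2, 2, -2, 0, -2, 2, 4, -2, -2, 0, 0, 0, -2, -2, 0, 0],
  [4, 0, 0, -2, 0, 2, 0, 2, -2, -2, 2, 0, -2, -2, 0, -2, -2, 0, 0, 0, 2, 2, 0, 0],
  [-2, 2, -2, 0, 2, 0, 2, 0, 0, 0, 4, 2, 0, 0, 2, 0, 0, 2, -2, -2, 0, 0, -2, 2],
  [0, 0, 0, -2, 0, 2, 0, -2, -2, 2, -2, 0, 2, -2, 0, -2, 2, 4, 0, 0, -2, 2, 0, 0],
  [2, 2, -2, 0, 2, 0, -2, 0, 4, 0, 0, -2, 0, 0, -2, 0, 0, 2, 2, -2, 0, 0, 2, 2],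
  [0, 0, 0, -2, 0, -2, 0, -2, 2, 2, 2, 0, -2, -2, 0, -2, 2, 0, 0, 4, 2, -2, 0, 0],
  [0, 0, 0, -2, 0, -2, 0, -2, -2, 2, 2, 0, -2, 2, 0, 2, -2, 0, 4, 0, -2, 2, 0, 0],
  [0, 4, 0, -2, 0, 2, 0, -2, -2, -2, -2, 0, -2, 2, 0, 2, 2, 0, 0, 0, 2, -2, 0, 0],
  [0, 0, 0, -2, 0, -2, 0, 2, -2, -2, 2, 0, 2, 2, 0, -2, 2, 0, 0, 0, -2, -2, 4, 0],
  [0, 0, 0, 2, 0, -2, 0, -2, -2, -2, -2, 0, -2, -2, 0, -2, -2, 0, 0, 0, -2, -2, 0, 4]]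

/-- Rows of an element commuting with the element of order 5. -/
def rowsY : List (List ℤ) := [
  [2, -2, -2, -2, -2, 0, -2, 0, -2, -2, 0, 0, -2, -2, 0, -4, -2, 0, -2, 0, 0, 0, 0, 0],
  [-2, 2, -2, -2, -2, 0, 2, 0, 2, 2, 0, 0, -2, -2, 0, 0, -2, 0, 2, 0, 0, -4, 0, 0],
  [-2, -2, 2, -2, 2, 0, 2, -4, -2, 2, 0, 0, -2, -2, 0, 0, 2, 0, -2, 0, 0, 0, 0, 0],
  [-4, 0, 0, 0, 0, 2, 0, 2, 0, 0, 2, 2, 0, 0, 2, -2, 0, 2, 0, 2, 2, 2, 2, 2],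
  [-2, -2, 2, -2, 2, 0, -2, 0, 2, -2, -4, 0, -2, 2, 0, 0, -2, 0, 2, 0, 0, 0, 0, 0],
  [0, 0, 0, 0, 0, -2, 0, 2, 0, 4, -2, -2, 0, 0, 2, -2, 0, 2, 0, -2, -2, 2, -2, 2],
  [-2, 2, 2, -2, -2, -4, 2, 0, -2, -2, 0, 0, 2, 2, 0, 0, -2, 0, -2, 0, 0, 0, 0, 0],
  [0, 0, 0, 0, 0, 2, 0, -2, 0, 0, 2, -2, 0, 4, 2, -2, 0, -2, 0, -2, -2, -2, 2, 2],
  [0, 0, 0, 0, 0, 2, 0, 2, 0, 0, -2, 2, 0, 0, 2, 2, 0, -2, -4, 2, -2, -2, -2, 2],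
  [0, 0, 0, 0, 0, -2, -4, -2, 0, 0, 2, -2, 0, 0, 2, 2, 0, 2, 0, 2, 2, -2, -2, 2],
  [0, 0, 0, 0, 0, -2, 0, 2, 0, 0, -2, -2, 0, 0, -2, -2, 4, -2, 0, 2, 2, -2, 2, 2],
  [2, 2, 2, -2, -2, 0, -2, 0, -2, 2, 0, 4, -2, 2, 0, 0, 2, 0, 2, 0, 0, 0, 0, 0],
  [0, -4, 0, 0, 0, -2, 0, 2, 0, 0, 2, 2, 0, 0, -2, 2, 0, 2, 0, -2, -2, -2, 2, 2],
  [0, 0, -4, 0, 0, -2, 0, -2, 0, 0, -2, 2, 0, 0, 2, 2, 0, -2, 0, -2, 2, 2, 2, 2],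
  [2, -2, 2, -2, -2, 0, 2, 0, 2, -2, 0, 0, 2, -2, 4, 0, 2, 0, 2, 0, 0, 0, 0, 0],
  [0, 0, 0, 4, 0, -2, 0, -2, 0, 0, -2, 2, 0, 0, 2, -2, 0, 2, 0, 2, -2, -2, 2, -2],
  [0, 0, 0, 0, -4, 2, 0, -2, 0, 0, -2, -2, 0, 0, -2, 2, 0, 2, 0, 2, -2, 2, 2, 2],
  [2, 2, -2, -2, 2, 0, 2, 0, 2, -2, 0, 0, -2, 2, 0, 0, 2, 4, -2, 0, 0, 0, 0, 0],
  [-2, 2, -2, -2, 2, 0, -2, 0, -2, -2, 0, 0, 2, -2, 0, 0, 2, 0, 2, 0, -4, 0, 0, 0],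
  [2, -2, -2, -2, 2, 0, 2, 0, -2, 2, 0, 0, 2, 2, 0, 0, -2, 0, 2, 4, 0, 0, 0, 0],
  [0, 0, 0, 0, 0, -2, 0, -2, 4, 0, 2, 2, 0, 0, -2, -2, 0, -2, 0, 2, -2, 2, -2, 2],
  [0, 0, 0, 0, 0, 2, 0, -2, 0, 0, -2, 2, 4, 0, -2, -2, 0, 2, 0, -2, 2, -2, -2, 2],
  [2, 2, 2, -2, 2, 0, -2, 0, 2, 2, 0, 0, 2, -2, 0, 0, -2, 0, -2, 0, 0, 0, 4, 0],
  [2, 2, 2, 2, 2, 0, 2, 0, -2, -2, 0, 0, -2, -2, 0, 0, -2, 0, 2, 0, 0, 0, 0, 4]]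

/-- Its columns. -/
def colsY : List (List ℤ) := [
  [2, -2, -2, -4, -2, 0, -2, 0, 0, 0, 0, 2, 0, 0, 2, 0, 0, 2, -2, 2, 0, 0, 2, 2],
  [-2, 2, -2, 0, -2, 0, 2, 0, 0, 0, 0, 2, -4, 0, -2, 0, 0, 2, 2, -2, 0, 0, 2, 2],
  [-2, -2, 2, 0, 2, 0, 2, 0, 0, 0, 0, 2, 0, -4, 2, 0, 0, -2, -2, -2, 0, 0, 2, 2],
  [-2, -2, -2, 0, -2, 0, -2, 0, 0, 0, 0, -2, 0, 0, -2, 4, 0, -2, -2, -2, 0, 0, -2, 2],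
  [-2, -2, 2, 0, 2, 0, -2, 0, 0, 0, 0, -2, 0, 0, -2, 0, -4, 2, 2, 2, 0, 0, 2, 2],
  [0, 0, 0, 2, 0, -2, -4, 2, 2, -2, -2, 0, -2, -2, 0, -2, 2, 0, 0, 0, -2, 2, 0, 0],
  [-2, 2, 2, 0, -2, 0, 2, 0, 0, -4, 0, -2, 0, 0, 2, 0, 0, 2, -2, 2, 0, 0, -2, 2],
  [0, 0, -4, 2, 0, 2, 0, -2, 2, -2, 2, 0, 2, -2, 0, -2, -2, 0, 0, 0, -2, -2, 0, 0],
  [-2, 2, -2, 0, 2, 0, -2, 0, 0, 0, 0, -2, 0, 0, 2, 0, 0, 2, -2, -2, 4, 0, 2, -2],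
  [-2, 2, 2, 0, -2, 4, -2, 0, 0, 0, 0, 2, 0, 0, -2, 0, 0, -2, -2, 2, 0, 0, 2, -2],
  [0, 0, 0, 2, -4, -2, 0, 2, -2, 2, -2, 0, 2, -2, 0, -2, -2, 0, 0, 0, 2, -2, 0, 0],
  [0, 0, 0, 2, 0, -2, 0, -2, 2, -2, -2, 4, 2, 2, 0, 2, -2, 0, 0, 0, 2, 2, 0, 0],
  [-2, -2, -2, 0, -2, 0, 2, 0, 0, 0, 0, -2, 0, 0, 2, 0, 0, -2, 2, 2, 0, 4, 2, -2],
  [-2, -2, -2, 0, 2, 0, 2, 4, 0, 0, 0, 2, 0, 0, -2, 0, 0, 2, -2, 2, 0, 0, -2, -2],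
  [0, 0, 0, 2, 0, 2, 0, 2, 2, 2, -2, 0, -2, 2, 4, 2, -2, 0, 0, 0, -2, -2, 0, 0],
  [-4, 0, 0, -2, 0, -2, 0, -2, 2, 2, -2, 0, 2, 2, 0, -2, 2, 0, 0, 0, -2, -2, 0, 0],
  [-2, -2, 2, 0, -2, 0, -2, 0, 0, 0, 4, 2, 0, 0, 2, 0, 0, 2, 2, -2, 0, 0, -2, -2],
  [0, 0, 0, 2, 0, 2, 0, -2, -2, 2, -2, 0, 2, -2, 0, 2, 2, 4, 0, 0, -2, 2, 0, 0],
  [-2, 2, -2, 0, 2, 0, -2, 0, -4, 0, 0, 2, 0, 0, 2, 0, 0, -2, 2, 2, 0, 0, -2, 2],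
  [0, 0, 0, 2, 0, -2, 0, -2, 2, 2, 2, 0, -2, -2, 0, 2, 2, 0, 0, 4, 2, -2, 0, 0],
  [0, 0, 0, 2, 0, -2, 0, -2, -2, 2, 2, 0, -2, 2, 0, -2, -2, 0, -4, 0, -2, 2, 0, 0],
  [0, -4, 0, 2, 0, 2, 0, -2, -2, -2, -2, 0, -2, 2, 0, -2, 2, 0, 0, 0, 2, -2, 0, 0],
  [0, 0, 0, 2, 0, -2, 0, 2, -2, -2, 2, 0, 2, 2, 0, 2, 2, 0, 0, 0, -2, -2, 4, 0],
  [0, 0, 0, 2, 0, 2, 0, 2, 2, 2, 2, 0, 2, 2, 0, -2, 2, 0, 0, 0, 2, 2, 0, 4]]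

/-- Rows of an element commuting with the element of order 5. -/
def rowsT : List (List ℤ) := [
  [8, 0, 0, 0, 0, 0, 0, 0, 0, 0, 0, 0, 0, 0, 0, 0, 0, 0, 0, 0, 0, 0, 0, 0],
  [0, -8, 0, 0, 0, 0, 0, 0, 0, 0, 0, 0, 0, 0, 0, 0, 0, 0, 0, 0, 0, 0, 0, 0],
  [0, 0, -8, 0, 0, 0, 0, 0, 0, 0, 0, 0, 0, 0, 0, 0, 0, 0, 0, 0, 0, 0, 0, 0],
  [0, 0, 0, -8, 0, 0, 0, 0, 0, 0, 0, 0, 0, 0, 0, 0, 0, 0, 0, 0, 0, 0, 0, 0],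
  [0, 0, 0, 0, -8, 0, 0, 0, 0, 0, 0, 0, 0, 0, 0, 0, 0, 0, 0, 0, 0, 0, 0, 0],
  [0, 0, 0, 0, 0, 8, 0, 0, 0, 0, 0, 0, 0, 0, 0, 0, 0, 0, 0, 0, 0, 0, 0, 0],
  [0, 0, 0, 0, 0, 0, -8, 0, 0, 0, 0, 0, 0, 0, 0, 0, 0, 0, 0, 0, 0, 0, 0, 0],
  [0, 0, 0, 0, 0, 0, 0, 8, 0, 0, 0, 0, 0, 0, 0, 0, 0, 0, 0, 0, 0, 0, 0, 0],
  [0, 0, 0, 0, 0, 0, 0, 0, 8, 0, 0, 0, 0, 0, 0, 0, 0, 0, 0, 0, 0, 0, 0, 0],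
  [0, 0, 0, 0, 0, 0, 0, 0, 0, 8, 0, 0, 0, 0, 0, 0, 0, 0, 0, 0, 0, 0, 0, 0],
  [0, 0, 0, 0, 0, 0, 0, 0, 0, 0, 8, 0, 0, 0, 0, 0, 0, 0, 0, 0, 0, 0, 0, 0],
  [0, 0, 0, 0, 0, 0, 0, 0, 0, 0, 0, 8, 0, 0, 0, 0, 0, 0, 0, 0, 0, 0, 0, 0],
  [0, 0, 0, 0, 0, 0, 0, 0, 0, 0, 0, 0, 8, 0, 0, 0, 0, 0, 0, 0, 0, 0, 0, 0],
  [0, 0, 0, 0, 0, 0, 0, 0, 0, 0, 0, 0, 0, 8, 0, 0, 0, 0, 0, 0, 0, 0, 0, 0],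
  [0, 0, 0, 0, 0, 0, 0, 0, 0, 0, 0, 0, 0, 0, 8, 0, 0, 0, 0, 0, 0, 0, 0, 0],
  [0, 0, 0, 0, 0, 0, 0, 0, 0, 0, 0, 0, 0, 0, 0, -8, 0, 0, 0, 0, 0, 0, 0, 0],
  [0, 0, 0, 0, 0, 0, 0, 0, 0, 0, 0, 0, 0, 0, 0, 0, 8, 0, 0, 0, 0, 0, 0, 0],
  [0, 0, 0, 0, 0, 0, 0, 0, 0, 0, 0, 0, 0, 0, 0, 0, 0, 8, 0, 0, 0, 0, 0, 0],
  [0, 0, 0, 0, 0, 0, 0, 0, 0, 0, 0, 0, 0, 0, 0, 0, 0, 0, -8, 0, 0, 0, 0, 0],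
  [0, 0, 0, 0, 0, 0, 0, 0, 0, 0, 0, 0, 0, 0, 0, 0, 0, 0, 0, 8, 0, 0, 0, 0],
  [0, 0, 0, 0, 0, 0, 0, 0, 0, 0, 0, 0, 0, 0, 0, 0, 0, 0, 0, 0, 8, 0, 0, 0],
  [0, 0, 0, 0, 0, 0, 0, 0, 0, 0, 0, 0, 0, 0, 0, 0, 0, 0, 0, 0, 0, 8, 0, 0],
  [0, 0, 0, 0, 0, 0, 0, 0, 0, 0, 0, 0, 0, 0, 0, 0, 0, 0, 0, 0, 0, 0, 8, 0],
  [0, 0, 0, 0, 0, 0, 0, 0, 0, 0, 0, 0, 0, 0, 0, 0, 0, 0, 0, 0, 0, 0, 0, -8]]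

/-- Its columns. -/
def colsT : List (List ℤ) := [
  [8, 0, 0, 0, 0, 0, 0, 0, 0, 0, 0, 0, 0, 0, 0, 0, 0, 0, 0, 0, 0, 0, 0, 0],
  [0, -8, 0, 0, 0, 0, 0, 0, 0, 0, 0, 0, 0, 0, 0, 0, 0, 0, 0, 0, 0, 0, 0, 0],
  [0, 0, -8, 0, 0, 0, 0, 0, 0, 0, 0, 0, 0, 0, 0, 0, 0, 0, 0, 0, 0, 0, 0, 0],
  [0, 0, 0, -8, 0, 0, 0, 0, 0, 0, 0, 0, 0, 0, 0, 0, 0, 0, 0, 0, 0, 0, 0, 0],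
  [0, 0, 0, 0, -8, 0, 0, 0, 0, 0, 0, 0, 0, 0, 0, 0, 0, 0, 0, 0, 0, 0, 0, 0],
  [0, 0, 0, 0, 0, 8, 0, 0, 0, 0, 0, 0, 0, 0, 0, 0, 0, 0, 0, 0, 0, 0, 0, 0],
  [0, 0, 0, 0, 0, 0, -8, 0, 0, 0, 0, 0, 0, 0, 0, 0, 0, 0, 0, 0, 0, 0, 0, 0],
  [0, 0, 0, 0, 0, 0, 0, 8, 0, 0, 0, 0, 0, 0, 0, 0, 0, 0, 0, 0, 0, 0, 0, 0],
  [0, 0, 0, 0, 0, 0, 0, 0, 8, 0, 0, 0, 0, 0, 0, 0, 0, 0, 0, 0, 0, 0, 0, 0],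
  [0, 0, 0, 0, 0, 0, 0, 0, 0, 8, 0, 0, 0, 0, 0, 0, 0, 0, 0, 0, 0, 0, 0, 0],
  [0, 0, 0, 0, 0, 0, 0, 0, 0, 0, 8, 0, 0, 0, 0, 0, 0, 0, 0, 0, 0, 0, 0, 0],
  [0, 0, 0, 0, 0, 0, 0, 0, 0, 0, 0, 8, 0, 0, 0, 0, 0, 0, 0, 0, 0, 0, 0, 0],
  [0, 0, 0, 0, 0, 0, 0, 0, 0, 0, 0, 0, 8, 0, 0, 0, 0, 0, 0, 0, 0, 0, 0, 0],
  [0, 0, 0, 0, 0, 0, 0, 0, 0, 0, 0, 0, 0, 8, 0, 0, 0, 0, 0, 0, 0, 0, 0, 0],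
  [0, 0, 0, 0, 0, 0, 0, 0, 0, 0, 0, 0, 0, 0, 8, 0, 0, 0, 0, 0, 0, 0, 0, 0],
  [0, 0, 0, 0, 0, 0, 0, 0, 0, 0, 0, 0, 0, 0, 0, -8, 0, 0, 0, 0, 0, 0, 0, 0],
  [0, 0, 0, 0, 0, 0, 0, 0, 0, 0, 0, 0, 0, 0, 0, 0, 8, 0, 0, 0, 0, 0, 0, 0],
  [0, 0, 0, 0, 0, 0, 0, 0, 0, 0, 0, 0, 0, 0, 0, 0, 0, 8, 0, 0, 0, 0, 0, 0],
  [0, 0, 0, 0, 0, 0, 0, 0, 0, 0, 0, 0, 0, 0, 0, 0, 0, 0, -8, 0, 0, 0, 0, 0],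
  [0, 0, 0, 0, 0, 0, 0, 0, 0, 0, 0, 0, 0, 0, 0, 0, 0, 0, 0, 8, 0, 0, 0, 0],
  [0, 0, 0, 0, 0, 0, 0, 0, 0, 0, 0, 0, 0, 0, 0, 0, 0, 0, 0, 0, 8, 0, 0, 0],
  [0, 0, 0, 0, 0, 0, 0, 0, 0, 0, 0, 0, 0, 0, 0, 0, 0, 0, 0, 0, 0, 8, 0, 0],
  [0, 0, 0, 0, 0, 0, 0, 0, 0, 0, 0, 0, 0, 0, 0, 0, 0, 0, 0, 0, 0, 0, 8, 0],
  [0, 0, 0, 0, 0, 0, 0, 0, 0, 0, 0, 0, 0, 0, 0, 0, 0, 0, 0, 0, 0, 0, 0, -8]]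

end CfsgLib.Co0FiveFix81
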